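import Cfsg.Agent.Lib.SpecLin.SLTwoClassExamples

/-!
Arithmetic for S2555: growth of the `r`-part of `x ^ r - 1`, and orders of elements of `SL_2` whose trace lies in
a subfield.
-/
set_option autoImplicit false

namespace CfsgLib.SylowFixAut96

open Matrix CfsgLib.SpecLin CfsgLib.SpecLin.SLTwo

theorem pow_succ_dvd_pow_sub_one {x : ℤ} {r a : ℕ} (ha : 1 ≤ a) (h : (r : ℤ) ^ a ∣ x - 1) :
    (r : ℤ) ^ (a + 1) ∣ x ^ r - 1 := by
  have hsum : (r : ℤ) ∣ ∑ i ∈ Finset.range r, x ^ i := by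
    have h1 : (r : ℤ) ∣ ∑ i ∈ Finset.range r, (x ^ i - 1) := Finset.dvd_sum fun i _ =>
      ((dvd_pow_self (r : ℤ) (by omega)).trans h).trans (sub_one_dvd_pow_sub_one x i)
    rw [Finset.sum_sub_distrib, Finset.sum_const, Finset.card_range, nsmul_one] at h1
    simpa using h1.add (dvd_refl (r : ℤ))
  rw [← mul_geom_sum, pow_succ]
  exact mul_dvd_mul h hsum

theorem dvd_sq_sub_one_of_pow {b n r a : ℕ} (hb : 1 ≤ b) (ha : 1 ≤ a) (hn : r ∣ n)
    (h : r ^ a ∣ b ^ 2 - 1) : r ^ (a + 1) ∣ (b ^ n) ^ 2 - 1 := by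
  have hb2 : 1 ≤ b ^ 2 := Nat.one_le_pow _ _ hb
  have hbn : 1 ≤ (b ^ n) ^ 2 := Nat.one_le_pow _ _ (Nat.one_le_pow _ _ hb)
  have h1 : ((r : ℤ) ^ a) ∣ ((b : ℤ) ^ 2 - 1) := by
    have h' := Int.natCast_dvd_natCast.2 h
    push_cast [Nat.cast_sub hb2] at h'
    exact h'
  obtain ⟨c, rfl⟩ := hn
  have h2 := (pow_succ_dvd_pow_sub_one ha h1).trans
    (sub_one_dvd_pow_sub_one (((b : ℤ) ^ 2) ^ r) c)
  rw [← pow_mul ((b : ℤ) ^ 2) r c, ← pow_mul, mul_comm 2 (r * c), pow_mul] at h2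
  rw [← Int.natCast_dvd_natCast]
  push_cast [Nat.cast_sub hbn]
  exact h2

variable {K L : Type*} [Field K] [Field L]

/-- coefficients of `M ^ k` in terms of `M` and `1` for `det M = 1`, `tr M = t` -/
def coef (t : K) : ℕ → K × K
  | 0 => (0, 1)
  | k + 1 => ((coef t k).1 * t + (coef t k).2, -(coef t k).1)

theorem pow_eq_coef {M : Matrix (Fin 2) (Fin 2) K} (h : M.det = 1) (k : ℕ) :
    M ^ k = (coef M.trace k).1 • M + (coef M.trace k).2 • 1 := by
  induction k with
  | zero => simp [coef]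
  | succ k ih =>
    rw [pow_succ, ih, add_mul, smul_mul_assoc, smul_mul_assoc, sq_eq M h, one_mul]
    simp only [coef, smul_sub, smul_smul, add_smul, neg_smul]
    abel

theorem coef_map (f : K →+* L) (t : K) (k : ℕ) :
    coef (f t) k = (f (coef t k).1, f (coef t k).2) := by
  induction k with
  | zero => simp [coef]
  | succ k ih => simp [coef, ih]

theorem pow_eq_one_of_trace_mem [Fintype K] (f : K →+* L) {M : Matrix.SpecialLinearGroup (Fin 2) L}
    {t : K} (ht : f t = (M : Matrix (Fin 2) (Fin 2) L).trace) :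
    M ^ (Fintype.card K * (Fintype.card K ^ 2 - 1)) = 1 := by
  classical
  set N := Fintype.card K * (Fintype.card K ^ 2 - 1)
  have hC : (comp t) ^ N = 1 := by
    have h : (compSL t) ^ Nat.card (Matrix.SpecialLinearGroup (Fin 2) K) = 1 := pow_card_eq_one'
    rw [card_sl_two] at h
    have h' := congrArg Subtype.val h
    rw [Matrix.SpecialLinearGroup.coe_pow, Matrix.SpecialLinearGroup.coe_one] at h'
    exact h'
  rw [pow_eq_coef (det_comp t), trace_comp] at hC
  have hA : (coef t N).1 = 0 := by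
    have := congrFun (congrFun hC 1) 0
    simpa [SLTwo.comp] using this
  have hB : (coef t N).2 = 1 := by
    have := congrFun (congrFun hC 0) 0
    simpa [SLTwo.comp, hA] using this
  refine Subtype.ext ?_
  rw [Matrix.SpecialLinearGroup.coe_pow, Matrix.SpecialLinearGroup.coe_one, pow_eq_coef M.2, ← ht,
    coef_map, hA, hB]
  simp

end CfsgLib.SylowFixAut96
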