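import Cfsg.Agent.Lib.SylowFixAut96.Arith
import Cfsg.Agent.S2475
import Cfsg.Agent.Lib.AutPSL.OutPSL
import Cfsg.Agent.Lib.AutPSL.Kernel
import Cfsg.Agent.Lib.AutPSL.FieldGalois
import Mathlib.GroupTheory.Sylow

/-!
An automorphism of `PSL_2(F)` of `r`-power order (`r` odd) fixing a Sylow `r`-subgroup pointwise is inner.
-/
set_option autoImplicit false

namespace CfsgLib.SylowFixAut96

open Matrix CfsgLib.SpecLin CfsgLib.SpecLin.SLTwo CfsgLib.AutPSL CfsgLib.FieldGalois

variable {F : Type*} [Field F] [Fintype F]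

/-- upper unitriangular elements -/
def upper (a : F) : SLG 2 F := ⟨!![1, a; 0, 1], by simp [Matrix.det_fin_two]⟩

theorem upper_add (a b : F) : upper (a + b) = upper a * upper b := by
  apply Subtype.ext
  rw [Matrix.SpecialLinearGroup.coe_mul]
  show !![1, a + b; 0, 1] = !![1, a; 0, 1] * !![1, b; 0, 1]
  ext i j
  fin_cases i <;> fin_cases j <;> simp [Matrix.mul_apply, Fin.sum_univ_two, add_comm]

/-- the upper unitriangular group of `PSL_2(F)` -/
noncomputable def upperHom : Multiplicative F →* PSLG 2 F :=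
  (QuotientGroup.mk' _).comp
    { toFun := fun a => upper a.toAdd
      map_one' := by
        apply Subtype.ext
        ext i j
        fin_cases i <;> fin_cases j <;> simp [upper]
      map_mul' := fun a b => upper_add a.toAdd b.toAdd }

theorem upperHom_apply (a : F) : upperHom (Multiplicative.ofAdd a) = QuotientGroup.mk (upper a) := rfl

theorem fixed_lift {g : GL (Fin 2) F} {σ : F ≃+* F} {s : SLG 2 F}
    (h : conjAut g (fieldAut σ (QuotientGroup.mk s : PSLG 2 F)) = QuotientGroup.mk s) :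
    (g : Matrix (Fin 2) (Fin 2) F) * (s : Matrix (Fin 2) (Fin 2) F).map σ = (s : Matrix (Fin 2) (Fin 2) F) * (g : Matrix (Fin 2) (Fin 2) F) ∨
      (g : Matrix (Fin 2) (Fin 2) F) * (s : Matrix (Fin 2) (Fin 2) F).map σ = -((s : Matrix (Fin 2) (Fin 2) F) * (g : Matrix (Fin 2) (Fin 2) F)) := by
  rw [fieldAut_mk, conjAut_mk, eq_comm, QuotientGroup.eq, mem_center_iff'] at h
  set c := s⁻¹ * slConj g (slField σ s)
  have hc : (g : Matrix (Fin 2) (Fin 2) F) * (s : Matrix (Fin 2) (Fin 2) F).map σ =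
      (s : Matrix (Fin 2) (Fin 2) F) * (c : Matrix (Fin 2) (Fin 2) F) * g := by
    rw [← Matrix.SpecialLinearGroup.coe_mul, show s * c = slConj g (slField σ s) from mul_inv_cancel_left _ _,
      slConj_coe, slField_coe, mul_assoc, ← Units.val_mul, inv_mul_cancel, Units.val_one, mul_one]
  rcases h with h | h
  · left; rw [hc, h, mul_one]
  · right; rw [hc, h, mul_neg, mul_one, neg_mul]

theorem trace_sq_fixed {g : GL (Fin 2) F} {σ : F ≃+* F} {s : SLG 2 F}
    (h : conjAut g (fieldAut σ (QuotientGroup.mk s : PSLG 2 F)) = QuotientGroup.mk s) :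
    σ ((s : Matrix (Fin 2) (Fin 2) F).trace ^ 2) = (s : Matrix (Fin 2) (Fin 2) F).trace ^ 2 := by
  have hd : IsUnit (g : Matrix (Fin 2) (Fin 2) F) := g.isUnit
  have key : ∀ M : Matrix (Fin 2) (Fin 2) F, (g : Matrix (Fin 2) (Fin 2) F) * (s : Matrix (Fin 2) (Fin 2) F).map σ = M * (g : Matrix (Fin 2) (Fin 2) F) →
      σ ((s : Matrix (Fin 2) (Fin 2) F).trace) = M.trace := by
    intro M hM
    have e : (s : Matrix (Fin 2) (Fin 2) F).map σ = ((g⁻¹ : GL (Fin 2) F) : Matrix (Fin 2) (Fin 2) F) * (M * (g : Matrix (Fin 2) (Fin 2) F)) := by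
      rw [← hM, ← mul_assoc, ← Units.val_mul, inv_mul_cancel, Units.val_one, one_mul]
    have ht := congrArg Matrix.trace e
    rw [← mul_assoc, Matrix.trace_units_conj'] at ht
    rw [← ht]
    exact AddMonoidHom.map_trace σ.toAddMonoidHom _
  rw [map_pow]
  rcases fixed_lift h with h | h
  · rw [key _ h]
  · rw [key (-(s : Matrix (Fin 2) (Fin 2) F)) (by rw [h, neg_mul]), Matrix.trace_neg, neg_sq]

theorem mem_inn_of_field_trivial {r k : ℕ} (hr : Odd r) {g : GL (Fin 2) F}
    (h : orderOf (conjAut g : MulAut (PSLG 2 F)) = r ^ k) :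
    (conjAut g : MulAut (PSLG 2 F)) ∈ (MulAut.conj : PSLG 2 F →* _).range := by
  classical
  have hsq : (conjAut g : MulAut (PSLG 2 F)) ^ 2 ∈ (MulAut.conj : PSLG 2 F →* _).range := by
    let d : Fˣ := Matrix.GeneralLinearGroup.det g
    let g' : GL (Fin 2) F := Matrix.GeneralLinearGroup.scalar (Fin 2) d⁻¹ * (g * g)
    have hg' : (g' : Matrix (Fin 2) (Fin 2) F).det = 1 := by
      show (Matrix.GeneralLinearGroup.det g' : F) = 1
      have : Matrix.GeneralLinearGroup.det g' = 1 := by
        simp only [g', map_mul]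
        rw [show Matrix.GeneralLinearGroup.det (Matrix.GeneralLinearGroup.scalar (Fin 2) d⁻¹) = d⁻¹ * d⁻¹ from ?_]
        · show d⁻¹ * d⁻¹ * (d * d) = 1
          group
        · ext
          simp [sq]
      rw [this, Units.val_one]
    let S : SLG 2 F := ⟨_, hg'⟩
    refine ⟨QuotientGroup.mk S, ?_⟩
    rw [sq, ← map_mul]
    have e1 : (conjAut g' : MulAut (PSLG 2 F)) = conjAut (g * g) := by
      rw [map_mul, conjAut_scalar, one_mul]
    rw [← e1, ← show Matrix.SpecialLinearGroup.toGL S = g' from Units.ext rfl]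
    apply MulEquiv.ext
    intro y
    induction y using QuotientGroup.induction_on with
    | H t =>
      rw [conjAut_mk, MulAut.conj_apply, ← QuotientGroup.mk_inv, ← QuotientGroup.mk_mul,
        ← QuotientGroup.mk_mul]
      rfl
  obtain ⟨m, hm⟩ := hr.pow (n := k)
  have h1 := pow_orderOf_eq_one (conjAut g : MulAut (PSLG 2 F))
  rw [h, hm, pow_succ, pow_mul, ← eq_inv_iff_mul_eq_one.trans Iff.rfl] at h1
  have h2 := Subgroup.pow_mem _ hsq m
  rw [h1] at h2
  exact (Subgroup.inv_mem_iff _).1 h2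

/-- the main statement -/
theorem linear_inner {r k : ℕ} [Fact r.Prime] (hr2 : Odd r)
    (hdvd : r ∣ Nat.card (PSLG 2 F)) (α : MulAut (PSLG 2 F)) (hα : orderOf α = r ^ k)
    (R : Sylow r (PSLG 2 F)) (hR : ∀ x ∈ (R : Subgroup (PSLG 2 F)), α x = x) :
    α ∈ (MulAut.conj : PSLG 2 F →* _).range := by
  classical
  obtain ⟨g, σ, hgσ⟩ : ∃ (g : GL (Fin 2) F) (σ : F ≃+* F), α = conjAut g * fieldAut σ := by
    obtain ⟨g, σ, h | h⟩ := aut_psl_structure le_rfl α
    · exact ⟨g, σ, h⟩
    · obtain ⟨w, hw⟩ := iotaAut_two (F := F)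
      refine ⟨g * glField σ w, σ, ?_⟩
      rw [h, ← hw, mul_assoc (conjAut g), fieldAut_mul_conjAut, map_mul, mul_assoc]
  by_cases hσ : σ = 1
  · subst hσ
    rw [map_one, mul_one] at hgσ
    subst hgσ
    exact mem_inn_of_field_trivial hr2 hα
  exfalso
  -- the order of `σ` is a power of `r`
  have hpow : ∀ i : ℕ, ∃ g' : GL (Fin 2) F, α ^ i = conjAut g' * fieldAut (σ ^ i) := by
    intro i
    induction i with
    | zero => exact ⟨1, by simp⟩
    | succ i ih =>
      obtain ⟨g', hg'⟩ := ih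
      refine ⟨g' * glField (σ ^ i) g, ?_⟩
      rw [pow_succ, pow_succ, hg', hgσ, map_mul, map_mul, mul_assoc, ← mul_assoc (fieldAut (σ ^ i)),
        fieldAut_mul_conjAut, mul_assoc, ← mul_assoc]
  have hσr : σ ^ r ^ k = 1 := by
    obtain ⟨g', hg'⟩ := hpow (r ^ k)
    rw [← hα, pow_orderOf_eq_one] at hg'
    rw [← hα]
    exact (eq_one_of_conj_field le_rfl hg'.symm).2
  have hr := Fact.out (p := r.Prime)
  obtain ⟨j, -, hj⟩ := (Nat.dvd_prime_pow hr).1 (orderOf_dvd_of_pow_eq_one hσr)
  have hj1 : j ≠ 0 := fun h0 => hσ (orderOf_eq_one_iff.1 (by rw [hj, h0, pow_zero]))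
  -- squares of traces of `r`-elements are fixed by `σ`
  have hfix : ∀ s : SLG 2 F, (∃ i, (QuotientGroup.mk s : PSLG 2 F) ^ r ^ i = 1) →
      σ ((s : Matrix (Fin 2) (Fin 2) F).trace) = (s : Matrix (Fin 2) (Fin 2) F).trace := by
    rintro s ⟨i, hi⟩
    have hp : IsPGroup r (Subgroup.zpowers (QuotientGroup.mk s : PSLG 2 F)) := by
      rw [IsPGroup.iff_card, Nat.card_zpowers]
      obtain ⟨l, -, hl⟩ := (Nat.dvd_prime_pow hr).1 (orderOf_dvd_of_pow_eq_one hi)
      exact ⟨l, hl⟩
    obtain ⟨P, hP⟩ := hp.exists_le_sylow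
    obtain ⟨c, hc⟩ := MulAction.exists_smul_eq (PSLG 2 F) P R
    have hmem : c * QuotientGroup.mk s * c⁻¹ ∈ (R : Subgroup (PSLG 2 F)) := by
      rw [← hc]
      exact ⟨_, hP (Subgroup.mem_zpowers _), rfl⟩
    obtain ⟨w, rfl⟩ := QuotientGroup.mk_surjective c
    rw [← QuotientGroup.mk_inv, ← QuotientGroup.mk_mul, ← QuotientGroup.mk_mul] at hmem
    have h2 := hR _ hmem
    rw [hgσ, MulAut.mul_apply] at h2
    have h3 := trace_sq_fixed h2
    rw [trace_eq_of_isConj (isConj_iff.2 ⟨w, rfl⟩ : IsConj s (w * s * w⁻¹))] at h3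
    set t := (s : Matrix (Fin 2) (Fin 2) F).trace
    rw [map_pow, sq_eq_sq_iff_eq_or_eq_neg] at h3
    rcases h3 with h3 | h3
    · exact h3
    · have h4 : ∀ i : ℕ, (σ ^ (2 * i)) t = t := by
        intro i
        induction i with
        | zero => simp
        | succ i ih =>
          have h22 : σ (σ t) = t := by rw [h3, map_neg, h3, neg_neg]
          rw [Nat.mul_succ, pow_add, RingAut.mul_apply, pow_two, RingAut.mul_apply, h22, ih]
      obtain ⟨m, hm⟩ := hr2.pow (n := j)
      have h5 : σ ^ r ^ j = 1 := hj ▸ pow_orderOf_eq_one σ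
      have h6 := congrArg (fun τ : F ≃+* F => τ t) h5
      simp only [hm, pow_succ', RingAut.mul_apply, h4, RingAut.one_apply] at h6
      exact h6
  obtain ⟨p, hp⟩ := CharP.exists F
  haveI : Fact p.Prime := ⟨CharP.char_is_prime F p⟩
  have hq1 : 1 < Fintype.card F := Fintype.one_lt_card
  have hdvd' : r ∣ Fintype.card F * ((Fintype.card F - 1) * (Fintype.card F + 1)) := by
    have h := hdvd.trans (Subgroup.card_quotient_dvd_card (Subgroup.center (SLG 2 F)))
    rw [card_sl_two] at h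
    rwa [show (Fintype.card F - 1) * (Fintype.card F + 1) = Fintype.card F ^ 2 - 1 by
      rw [← Nat.sq_sub_sq (Fintype.card F) 1 |>.trans (mul_comm _ _), one_pow]]
  rcases hr.dvd_mul.1 hdvd' with hq | hq
  · -- defining characteristic
    obtain ⟨n, -, hn⟩ := FiniteField.card F p
    have hrp : r = p := (Nat.prime_dvd_prime_iff_eq hr Fact.out).1 (hr.dvd_of_dvd_pow (hn ▸ hq))
    subst hrp
    have hU : IsPGroup r (upperHom (F := F)).range := by
      rintro ⟨x, a, rfl⟩
      refine ⟨1, Subtype.ext ?_⟩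
      rw [pow_one, SubgroupClass.coe_pow, Subgroup.coe_one, ← map_pow]
      have : a ^ r = 1 := by
        apply Multiplicative.toAdd.injective
        rw [toAdd_pow, toAdd_one, nsmul_eq_mul, CharP.cast_eq_zero, zero_mul]
      rw [this, map_one]
    obtain ⟨P, hP⟩ := hU.exists_le_sylow
    obtain ⟨c, hc⟩ := MulAction.exists_smul_eq (PSLG 2 F) P R
    obtain ⟨w, rfl⟩ := QuotientGroup.mk_surjective c
    let W : GL (Fin 2) F := Matrix.SpecialLinearGroup.toGL w
    let g' : GL (Fin 2) F := W⁻¹ * g * glField σ W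
    have hg' : ∀ a : F, conjAut g' (fieldAut σ (QuotientGroup.mk (upper a) : PSLG 2 F)) =
        QuotientGroup.mk (upper a) := by
      intro a
      have hW : ∀ x : PSLG 2 F, conjAut W x = QuotientGroup.mk w * x * (QuotientGroup.mk w)⁻¹ := by
        intro x
        induction x using QuotientGroup.induction_on with
        | H t =>
          rw [conjAut_mk, ← QuotientGroup.mk_inv, ← QuotientGroup.mk_mul, ← QuotientGroup.mk_mul]
          rfl
      have hmem : conjAut W (QuotientGroup.mk (upper a)) ∈ (R : Subgroup (PSLG 2 F)) := by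
        rw [hW, ← hc]
        exact ⟨_, hP ⟨_, upperHom_apply a⟩, rfl⟩
      have h2 := hR _ hmem
      rw [hgσ, MulAut.mul_apply] at h2
      have h3 := congrArg (fun τ : MulAut (PSLG 2 F) => τ (QuotientGroup.mk (upper a))) (fieldAut_mul_conjAut σ W)
      simp only [MulAut.mul_apply] at h3
      rw [h3] at h2
      simp only [g', map_mul, map_inv, MulAut.mul_apply]
      rw [h2, MulAut.inv_apply, MulEquiv.symm_apply_apply]
    have htwo : (2 : F) ≠ 0 := by
      intro h
      have := (CharP.cast_eq_zero_iff F r 2).1 (by exact_mod_cast h)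
      have hh := (Nat.prime_dvd_prime_iff_eq hr Nat.prime_two).1 this
      rw [hh] at hr2
      exact absurd hr2 (by decide)
    have hrow : ∀ a : F, (g' : Matrix (Fin 2) (Fin 2) F) 1 0 = 0 ∧
        (g' : Matrix (Fin 2) (Fin 2) F) 0 0 * σ a = a * (g' : Matrix (Fin 2) (Fin 2) F) 1 1 := by
      intro a
      have hent : ∀ b : F, (g' : Matrix (Fin 2) (Fin 2) F) * !![1, σ b; 0, 1] = !![1, b; 0, 1] * g' := by
        intro b
        have hmap : ((upper b : SLG 2 F) : Matrix (Fin 2) (Fin 2) F).map σ = !![1, σ b; 0, 1] := by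
          ext i l; fin_cases i <;> fin_cases l <;> simp [upper]
        rcases fixed_lift (hg' b) with h | h
        · rwa [hmap] at h
        · exfalso
          have h' : ((g' : Matrix (Fin 2) (Fin 2) F) * (upper b : SLG 2 F).1.map σ).trace =
              (-((upper b : SLG 2 F).1 * (g' : Matrix (Fin 2) (Fin 2) F))).trace := by rw [h]
          have e : (upper b : SLG 2 F).1.map σ =
              ((g'⁻¹ : GL (Fin 2) F) : Matrix (Fin 2) (Fin 2) F) * (-(upper b : SLG 2 F).1 * g') := by
            rw [← neg_mul] at h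
            rw [← h, ← mul_assoc, ← Units.val_mul, inv_mul_cancel, Units.val_one, one_mul]
          have ht := congrArg Matrix.trace e
          rw [← mul_assoc, Matrix.trace_units_conj', hmap] at ht
          simp [upper, Matrix.trace_fin_two] at ht
          exact htwo (by
            have h4 : (2 : F) * 2 = 0 := by linear_combination ht
            exact (mul_self_eq_zero.1 h4))
      have e := hent a
      have e0 := congrFun (congrFun e 0) 0
      have e1 := congrFun (congrFun e 0) 1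
      have o := congrFun (congrFun (hent 1) 0) 0
      simp [Matrix.mul_apply, Fin.sum_univ_two] at e0 e1 o
      refine ⟨o, ?_⟩
      linear_combination e1
    have h00 := (hrow 1).2
    rw [map_one, mul_one, one_mul] at h00
    have hne : (g' : Matrix (Fin 2) (Fin 2) F) 0 0 ≠ 0 := by
      intro h
      have hdet : (g' : Matrix (Fin 2) (Fin 2) F).det ≠ 0 := (Matrix.isUnit_iff_isUnit_det _ |>.1 g'.isUnit).ne_zero
      rw [Matrix.det_fin_two, h, (hrow 1).1] at hdet
      simp at hdet
    refine hσ (RingEquiv.ext fun a => ?_)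
    have := (hrow a).2
    rw [← h00, mul_comm a] at this
    exact mul_left_cancel₀ hne this
  · -- other characteristics
    obtain ⟨Q, X, hX, hQ, hQq⟩ : ∃ (Q : ℕ) (X : SLG 2 F), orderOf X = Q ∧ r ∣ Q ∧
        (∃ Q' : ℕ, (Fintype.card F) ^ 2 - 1 = Q * Q' ∧ ¬ r ∣ Q') := by
      have hsq : (Fintype.card F) ^ 2 - 1 = (Fintype.card F - 1) * (Fintype.card F + 1) := by
        rw [← Nat.sq_sub_sq (Fintype.card F) 1 |>.trans (mul_comm _ _), one_pow]
      have hboth : ¬ (r ∣ Fintype.card F - 1 ∧ r ∣ Fintype.card F + 1) := by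
        rintro ⟨h1, h2⟩
        have h3 := Nat.dvd_sub h2 h1
        rw [show Fintype.card F + 1 - (Fintype.card F - 1) = 2 by omega] at h3
        rw [(Nat.prime_dvd_prime_iff_eq hr Nat.prime_two).1 h3] at hr2
        exact absurd hr2 (by decide)
      rcases hr.dvd_mul.1 hq with h | h
      · obtain ⟨X, hX⟩ := Cfsg.Agent.S2475.exists_order_split (F := F)
        exact ⟨_, X, hX, h, _, hsq, fun h' => hboth ⟨h, h'⟩⟩
      · obtain ⟨X, hX⟩ := Cfsg.Agent.S2475.exists_order_nonsplit (F := F)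
        exact ⟨_, X, hX, h, _, hsq.trans (mul_comm _ _), fun h' => hboth ⟨h', h⟩⟩
    obtain ⟨Q', hQq, hQ'⟩ := hQq
    have hQ0 : Q ≠ 0 := hX ▸ (orderOf_pos X).ne'
    obtain ⟨a, m, hm, hQe⟩ := Nat.exists_eq_pow_mul_and_not_dvd hQ0 r hr.ne_one
    have ha : 1 ≤ a := by
      by_contra h
      rw [show a = 0 by omega, pow_zero, one_mul] at hQe
      exact hm (hQe ▸ hQ)
    let s := X ^ m
    have hs : orderOf s = r ^ a := by
      have hm0 : m ≠ 0 := fun h => hm (h ▸ dvd_zero r)
      rw [show s = X ^ m from rfl, orderOf_pow_of_dvd hm0 (hX ▸ hQe ▸ dvd_mul_left m _), hX, hQe,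
        Nat.mul_div_cancel _ (Nat.pos_of_ne_zero hm0)]
    have ht := hfix s ⟨a, by rw [← QuotientGroup.mk_pow, ← hs, pow_orderOf_eq_one]; rfl⟩
    have hcard : Fintype.card F = Fintype.card (fixedSub σ) ^ r ^ j := by
      have := natCard_fixedSub σ
      rwa [hj, Nat.card_eq_fintype_card, Nat.card_eq_fintype_card] at this
    have hN := pow_eq_one_of_trace_mem (fixedSub σ).subtype (M := s)
      (t := ⟨_, mem_fixedSub.2 ht⟩) rfl
    rw [← orderOf_dvd_iff_pow_eq_one, hs] at hN
    set b := Fintype.card (fixedSub σ)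
    have hb : 1 ≤ b := Fintype.card_pos
    have hrb : Nat.Coprime (r ^ a) b := by
      apply Nat.Coprime.pow_left
      rw [hr.coprime_iff_not_dvd]
      intro h
      have hrq : r ∣ Fintype.card F := hcard ▸ h.trans (dvd_pow_self b (pow_ne_zero j hr.ne_zero))
      have h2 : r ∣ Fintype.card F ^ 2 - 1 := hQq ▸ hQ.trans (dvd_mul_right Q Q')
      have h3 := Nat.dvd_sub (dvd_pow hrq two_ne_zero) h2
      rw [Nat.sub_sub_self (Nat.one_le_pow _ _ (by omega))] at h3
      exact hr.ne_one (Nat.dvd_one.1 h3)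
    have hbig := dvd_sq_sub_one_of_pow hb ha (dvd_pow_self r hj1) (hrb.dvd_of_dvd_mul_left hN)
    rw [← hcard, hQq] at hbig
    have hcop : Nat.Coprime (r ^ (a + 1)) Q' := (hr.coprime_iff_not_dvd.2 hQ').pow_left _
    have hfin := hcop.dvd_of_dvd_mul_right hbig
    rw [hQe, pow_succ] at hfin
    exact hm (Nat.dvd_of_mul_dvd_mul_left (pow_pos hr.pos a) hfin)

end CfsgLib.SylowFixAut96
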