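import Cfsg.Agent.Lib.SylowFixAut96.Linear
import Cfsg.Agent.S4593
import Cfsg.Agent.Lib.Schur.JankoOne

/-!
S2555 from the list of simple groups with all Sylow subgroups abelian (S2554): an automorphism of `r`-power order
fixing a Sylow `r`-subgroup pointwise is inner.
-/
set_option autoImplicit false

namespace CfsgLib.SylowFixAut96

variable {G : Type*} [Group G] [Finite G] [IsSimpleGroup G]

theorem core_trivial (hna : ¬ IsMulCommutative G) :
    Subgroup.center G = ⊥ ∧ (2 ∣ Nat.card G → Cfsg.pPrimeCore 2 G = ⊥) := by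
  refine ⟨((inferInstance : (Subgroup.center G).Normal).eq_bot_or_eq_top).resolve_right fun h => hna ?_, ?_⟩
  · exact ⟨⟨fun a b => Subgroup.mem_center_iff.1 (h ▸ Subgroup.mem_top b : b ∈ Subgroup.center G) a⟩⟩
  · intro h2
    have hn : (Cfsg.pPrimeCore 2 G).Normal := inferInstance
    refine hn.eq_bot_or_eq_top.resolve_right fun h => ?_
    have hc := (CfsgLib.PCore.pPrimeCore_coprime (G := G) (p := 2))
    rw [h, Subgroup.card_top] at hc
    exact (Nat.prime_two.coprime_iff_not_dvd.1 hc.symm) h2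

/-- The statement, from the isomorphism list. -/
theorem inner_of_list (hna : ¬ IsMulCommutative G)
    (hlist : Cfsg.Spor.IsoJ1 G ∨
      ∃ (F : Type) (_ : Field F) (_ : Fintype F),
        Nonempty (G ≃* Matrix.ProjectiveSpecialLinearGroup (Fin 2) F))
    (hA : ∀ (P : Sylow 2 G), IsMulCommutative ↥P)
    (r : ℕ) [hr : Fact r.Prime] (hdvd : r ∣ Nat.card G) (α : G ≃* G) (k : ℕ) (hα : orderOf α = r ^ k)
    (R : Sylow r G) (hR : ∀ x ∈ (R : Subgroup G), α x = x) :
    ∃ g : G, ∀ x : G, α x = g * x * g⁻¹ := by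
  obtain ⟨hZ, hcore⟩ := core_trivial hna
  rcases hr.out.eq_two_or_odd' with h2 | hodd
  · subst h2
    exact Cfsg.Agent.S4593.result hZ (hcore hdvd) R (hA R) α ⟨k, hα⟩ hR
  rcases hlist with hJ | ⟨F, _, _, ⟨e⟩⟩
  · obtain ⟨e⟩ := hJ
    have htop : Cfsg.Inn ↥Cfsg.Spor.J1 = ⊤ :=
      Subgroup.index_eq_one.1 CfsgLib.Schur.JankoOne.card_out
    obtain ⟨y, hy⟩ : MulAut.congr e α ∈ Cfsg.Inn ↥Cfsg.Spor.J1 := htop ▸ Subgroup.mem_top _
    refine ⟨e.symm y, fun x => e.injective ?_⟩
    have := DFunLike.congr_fun hy (e x)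
    simp only [MulAut.conj_apply] at this
    rw [show MulAut.congr e α (e x) = e (α x) by simp [MulAut.congr]] at this
    rw [← this, map_mul, map_mul, map_inv, MulEquiv.apply_symm_apply]
  · have hord : orderOf (MulAut.congr e α) = r ^ k := by rw [MulEquiv.orderOf_eq, hα]
    let R' : Sylow r (Matrix.ProjectiveSpecialLinearGroup (Fin 2) F) := R.mapSurjective (f := e.toMonoidHom) e.surjective
    obtain ⟨y, hy⟩ := linear_inner hodd (by rwa [← Nat.card_congr e.toEquiv]) (MulAut.congr e α) hord R' (by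
      rintro _ ⟨x, hx, rfl⟩
      show MulAut.congr e α (e x) = e x
      rw [show MulAut.congr e α (e x) = e (α x) by simp [MulAut.congr], hR x hx])
    refine ⟨e.symm y, fun x => e.injective ?_⟩
    have := DFunLike.congr_fun hy (e x)
    simp only [MulAut.conj_apply] at this
    rw [show MulAut.congr e α (e x) = e (α x) by simp [MulAut.congr]] at this
    rw [← this, map_mul, map_mul, map_inv, MulEquiv.apply_symm_apply]

end CfsgLib.SylowFixAut96
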